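import Mathlib.Algebra.Homology.ShortComplex.ModuleCat
import Mathlib.Algebra.Homology.QuasiIso

/-!
# Elementwise criterion for a morphism of short complexes of modules to be a quasi-isomorphism
-/

set_option autoImplicit false
universe u v

namespace Groth.Agent.H9.TensorH1

open CategoryTheory CategoryTheory.Limits

variable {A : Type u} [Ring A]
variable {S₁ S₂ : ShortComplex (ModuleCat.{v} A)} (ψ : S₁ ⟶ S₂)

theorem isIso_homologyMap_of_elem
    (hinj : ∀ z : S₁.X₂, S₁.g z = 0 → (∃ w : S₂.X₁, S₂.f w = ψ.τ₂ z) → ∃ w' : S₁.X₁, S₁.f w' = z)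
    (hsurj : ∀ y : S₂.X₂, S₂.g y = 0 →
      ∃ z : S₁.X₂, S₁.g z = 0 ∧ ∃ w : S₂.X₁, y = ψ.τ₂ z + S₂.f w) :
    IsIso (ShortComplex.homologyMap ψ) := by
  let h₁ := S₁.moduleCatLeftHomologyData
  let h₂ := S₂.moduleCatLeftHomologyData
  let γ : ShortComplex.LeftHomologyMapData ψ h₁ h₂ := default
  have commπ : ∀ k : h₁.K, γ.φH (h₁.π k) = h₂.π (γ.φK k) := by
    intro k
    have := congrArg (fun f => f k) (ModuleCat.hom_ext_iff.1 γ.commπ)
    simp only [ModuleCat.hom_comp, LinearMap.comp_apply] at this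
    exact this
  have commi : ∀ k : h₁.K, h₂.i (γ.φK k) = ψ.τ₂ (h₁.i k) := by
    intro k
    have := congrArg (fun f => f k) (ModuleCat.hom_ext_iff.1 γ.commi)
    simp only [ModuleCat.hom_comp, LinearMap.comp_apply] at this
    exact this
  have π₁surj : ∀ x : h₁.H, ∃ k : h₁.K, h₁.π k = x :=
    Submodule.mkQ_surjective (LinearMap.range S₁.moduleCatToCycles)
  have π₂surj : ∀ x : h₂.H, ∃ k : h₂.K, h₂.π k = x :=
    Submodule.mkQ_surjective (LinearMap.range S₂.moduleCatToCycles)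
  have π₁zero : ∀ k : LinearMap.ker S₁.g.hom, h₁.π k = 0 ↔ k ∈ LinearMap.range S₁.moduleCatToCycles := by
    intro k
    change (LinearMap.range S₁.moduleCatToCycles).mkQ k = 0 ↔ _
    rw [Submodule.mkQ_apply, Submodule.Quotient.mk_eq_zero]
  have π₂zero : ∀ k : LinearMap.ker S₂.g.hom, h₂.π k = 0 ↔ k ∈ LinearMap.range S₂.moduleCatToCycles := by
    intro k
    change (LinearMap.range S₂.moduleCatToCycles).mkQ k = 0 ↔ _
    rw [Submodule.mkQ_apply, Submodule.Quotient.mk_eq_zero]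
  have hbij : Function.Bijective γ.φH.hom := by
    constructor
    · rw [injective_iff_map_eq_zero]
      intro x hx
      obtain ⟨k, rfl⟩ := π₁surj x
      have hx' : γ.φH (h₁.π k) = 0 := hx
      rw [commπ] at hx'
      obtain ⟨w, hw⟩ := (π₂zero _).mp hx'
      have hw' : S₂.f w = ψ.τ₂ (h₁.i k) := by
        rw [← commi, ← hw]
        rfl
      obtain ⟨w', hw''⟩ := hinj (h₁.i k) k.2 ⟨w, hw'⟩
      exact (π₁zero _).mpr ⟨w', Subtype.ext hw''⟩
    · intro y
      obtain ⟨k₂, rfl⟩ := π₂surj y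
      obtain ⟨z, hz, w, hw⟩ := hsurj k₂.1 k₂.2
      let k₁ : h₁.K := ⟨z, hz⟩
      refine ⟨h₁.π k₁, ?_⟩
      change γ.φH (h₁.π k₁) = _
      rw [commπ]
      have : h₂.π (k₂ - γ.φK k₁) = 0 := by
        refine (π₂zero _).mpr ⟨w, Subtype.ext ?_⟩
        change S₂.f w = k₂.1 - h₂.i (γ.φK k₁)
        rw [commi, hw]
        change _ = ψ.τ₂ z + S₂.f w - ψ.τ₂ z
        abel
      rw [map_sub, sub_eq_zero] at this
      exact this.symm
  have : IsIso γ.φH := (ConcreteCategory.isIso_iff_bijective γ.φH).mpr hbij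
  rw [γ.homologyMap_eq]
  infer_instance

end Groth.Agent.H9.TensorH1
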