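import Mathlib.Algebra.Homology.Monoidal
import Mathlib.Algebra.Category.ModuleCat.Monoidal.Basic
import Mathlib.Algebra.Category.ModuleCat.Abelian
import Mathlib.Algebra.Homology.QuasiIso
import Mathlib.Algebra.Homology.Single
import Mathlib.LinearAlgebra.FreeModule.Basic
import Mathlib.Algebra.Category.ModuleCat.Colimits
import Mathlib.LinearAlgebra.TensorProduct.RightExactness
import Mathlib.RingTheory.Flat.Basic

/-!
# Low-degree structure of the tensor product of two ℕ-indexed chain complexes of modules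
-/

set_option autoImplicit false
universe v
open CategoryTheory MonoidalCategory HomologicalComplex Limits

namespace Groth.Agent.H9.TensorH1

variable {R : Type v} [CommRing R]

section
variable (K L : ChainComplex (ModuleCat.{v} R) ℕ)

/-- the inclusion of a summand -/
noncomputable abbrev ι (p q n : ℕ) (h : p + q = n) : K.X p ⊗ L.X q ⟶ (K ⊗ L).X n :=
  ιTensorObj K L p q n h

variable {K L}

lemma ι_whiskerLeft {L' : ChainComplex (ModuleCat.{v} R) ℕ} (φ : L ⟶ L') (p q n : ℕ)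
    (h : p + q = n) :
    ι K L p q n h ≫ (K ◁ φ).f n = (K.X p ◁ φ.f q) ≫ ι K L' p q n h := by
  have := ι_mapBifunctorMap (𝟙 K) φ (curriedTensor (ModuleCat.{v} R)) (ComplexShape.down ℕ) p q n h
  rw [HomologicalComplex.id_f, CategoryTheory.Functor.map_id, NatTrans.id_app, Category.id_comp] at this
  exact this

variable (K L)

lemma ι_d_succ_succ (p q : ℕ) :
    ι K L (p + 1) (q + 1) (p + q + 2) (by omega) ≫ (K ⊗ L).d (p + q + 2) (p + q + 1) =
      (K.d (p + 1) p ▷ L.X (q + 1)) ≫ ι K L p (q + 1) (p + q + 1) (by omega) +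
      ((-1 : ℤˣ) ^ (p + 1)) • ((K.X (p + 1) ◁ L.d (q + 1) q) ≫ ι K L (p + 1) q (p + q + 1) (by omega)) := by
  change ιMapBifunctor K L (curriedTensor _) (ComplexShape.down ℕ) _ _ _ _ ≫
    (mapBifunctor K L (curriedTensor _) (ComplexShape.down ℕ)).d _ _ = _
  rw [mapBifunctor.d_eq, Preadditive.comp_add, mapBifunctor.ι_D₁, mapBifunctor.ι_D₂]
  rw [mapBifunctor.d₁_eq K L _ _ (show (ComplexShape.down ℕ).Rel (p + 1) p from rfl) (q + 1)
    (p + q + 1) (by simp; omega)]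
  rw [mapBifunctor.d₂_eq K L _ _ (p + 1) (show (ComplexShape.down ℕ).Rel (q + 1) q from rfl)
    (p + q + 1) (by simp; omega)]
  simp

lemma ι_d_zero_succ (q : ℕ) :
    ι K L 0 (q + 1) (q + 1) (by omega) ≫ (K ⊗ L).d (q + 1) q =
      (K.X 0 ◁ L.d (q + 1) q) ≫ ι K L 0 q q (by omega) := by
  change ιMapBifunctor K L (curriedTensor _) (ComplexShape.down ℕ) _ _ _ _ ≫
    (mapBifunctor K L (curriedTensor _) (ComplexShape.down ℕ)).d _ _ = _
  rw [mapBifunctor.d_eq, Preadditive.comp_add, mapBifunctor.ι_D₁, mapBifunctor.ι_D₂]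
  rw [mapBifunctor.d₁_eq_zero K L _ _ 0 (q + 1) q (by simp)]
  rw [mapBifunctor.d₂_eq K L _ _ 0 (show (ComplexShape.down ℕ).Rel (q + 1) q from rfl)
    q (by simp)]
  simp

lemma ι_d_succ_zero (p : ℕ) :
    ι K L (p + 1) 0 (p + 1) (by omega) ≫ (K ⊗ L).d (p + 1) p =
      (K.d (p + 1) p ▷ L.X 0) ≫ ι K L p 0 p (by omega) := by
  change ιMapBifunctor K L (curriedTensor _) (ComplexShape.down ℕ) _ _ _ _ ≫
    (mapBifunctor K L (curriedTensor _) (ComplexShape.down ℕ)).d _ _ = _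
  rw [mapBifunctor.d_eq, Preadditive.comp_add, mapBifunctor.ι_D₁, mapBifunctor.ι_D₂]
  rw [mapBifunctor.d₂_eq_zero K L _ _ (p + 1) 0 p (by simp)]
  rw [mapBifunctor.d₁_eq K L _ _ (show (ComplexShape.down ℕ).Rel (p + 1) p from rfl) 0
    p (by simp)]
  simp

/-- a retraction of the inclusion of a summand -/
noncomputable def retr (p q n : ℕ) (_ : p + q = n) : (K ⊗ L).X n ⟶ K.X p ⊗ L.X q :=
  mapBifunctorDesc (K₁ := K) (K₂ := L) (F := curriedTensor (ModuleCat.{v} R))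
    (c := ComplexShape.down ℕ) (j := n)
    (fun p' q' _ => if h' : p' = p ∧ q' = q then
      eqToHom (by obtain ⟨rfl, rfl⟩ := h'; rfl) else 0)

@[reassoc (attr := simp)]
lemma ι_retr (p q n : ℕ) (h : p + q = n) : ι K L p q n h ≫ retr K L p q n h = 𝟙 _ := by
  dsimp only [ι, ιTensorObj, retr]
  rw [ι_mapBifunctorDesc, dif_pos ⟨rfl, rfl⟩]
  rfl

@[reassoc]
lemma ι_retr_of_ne (p q p' q' n : ℕ) (h : p + q = n) (h' : p' + q' = n) (hne : ¬ (p' = p ∧ q' = q)) :
    ι K L p' q' n h' ≫ retr K L p q n h = 0 := by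
  dsimp only [ι, ιTensorObj, retr]
  rw [ι_mapBifunctorDesc, dif_neg hne]

lemma ι_injective (p q n : ℕ) (h : p + q = n) : Function.Injective (ι K L p q n h) := by
  intro x y hxy
  have := congrArg (retr K L p q n h) hxy
  rw [← ConcreteCategory.comp_apply, ← ConcreteCategory.comp_apply, ι_retr] at this
  simpa using this

lemma id_X_one :
    𝟙 ((K ⊗ L).X 1) = retr K L 1 0 1 rfl ≫ ι K L 1 0 1 rfl + retr K L 0 1 1 rfl ≫ ι K L 0 1 1 rfl := by
  refine mapBifunctor.hom_ext (K₁ := K) (K₂ := L) (F := curriedTensor (ModuleCat.{v} R))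
    (c := ComplexShape.down ℕ) ?_
  intro i₁ i₂ h
  change i₁ + i₂ = 1 at h
  obtain ⟨rfl, rfl⟩ | ⟨rfl, rfl⟩ : (i₁ = 1 ∧ i₂ = 0) ∨ (i₁ = 0 ∧ i₂ = 1) := by omega
  · change ι K L 1 0 1 rfl ≫ _ = ι K L 1 0 1 rfl ≫ _
    rw [Preadditive.comp_add, ι_retr_assoc, ι_retr_of_ne_assoc K L 0 1 1 0 1 rfl rfl (by omega)]
    simp
  · change ι K L 0 1 1 rfl ≫ _ = ι K L 0 1 1 rfl ≫ _
    rw [Preadditive.comp_add, ι_retr_assoc, ι_retr_of_ne_assoc K L 1 0 0 1 1 rfl rfl (by omega)]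
    simp

lemma exists_decomp_one (t : (K ⊗ L).X 1) :
    ∃ (a : (K.X 1 ⊗ L.X 0 : ModuleCat.{v} R)) (b : (K.X 0 ⊗ L.X 1 : ModuleCat.{v} R)),
      t = ι K L 1 0 1 rfl a + ι K L 0 1 1 rfl b := by
  refine ⟨retr K L 1 0 1 rfl t, retr K L 0 1 1 rfl t, ?_⟩
  have := congrArg (fun f => (ConcreteCategory.hom f) t) (id_X_one K L)
  simpa using this

lemma epi_whiskerLeft_obj (X : ModuleCat.{v} R) {A B : ModuleCat.{v} R} (f : A ⟶ B) [Epi f] :
    Epi (X ◁ f) :=
  (ModuleCat.epi_iff_surjective _).mpr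
    (LinearMap.lTensor_surjective X ((ModuleCat.epi_iff_surjective f).mp inferInstance))

variable {L} in
lemma epi_whiskerLeft_f {L' : ChainComplex (ModuleCat.{v} R) ℕ} (φ : L ⟶ L')
    (hφ : ∀ q, Epi (φ.f q)) (n : ℕ) : Epi ((K ◁ φ).f n) := by
  constructor
  intro Z g h hgh
  refine mapBifunctor.hom_ext (K₁ := K) (K₂ := L') (F := curriedTensor (ModuleCat.{v} R))
    (c := ComplexShape.down ℕ) ?_
  intro p q hpq
  change p + q = n at hpq
  change ι K L' p q n hpq ≫ g = ι K L' p q n hpq ≫ h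
  have := hφ q
  have : Epi (K.X p ◁ φ.f q) := epi_whiskerLeft_obj _ _
  rw [← cancel_epi (K.X p ◁ φ.f q)]
  have e := ι_whiskerLeft (K := K) φ p q n hpq
  rw [← Category.assoc, ← Category.assoc, ← e, Category.assoc, Category.assoc, hgh]

/-! ### elementwise versions -/

variable {K L} in
lemma ι_whiskerLeft_apply {L' : ChainComplex (ModuleCat.{v} R) ℕ} (φ : L ⟶ L') (p q n : ℕ)
    (h : p + q = n) (x : (K.X p ⊗ L.X q : ModuleCat.{v} R)) :
    (K ◁ φ).f n (ι K L p q n h x) = ι K L' p q n h ((K.X p ◁ φ.f q) x) := by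
  have := congrArg (fun f => (ConcreteCategory.hom f) x) (ι_whiskerLeft (K := K) φ p q n h)
  simpa using this

lemma ι_d_zero_succ_apply (q : ℕ) (x : (K.X 0 ⊗ L.X (q + 1) : ModuleCat.{v} R)) :
    (K ⊗ L).d (q + 1) q (ι K L 0 (q + 1) (q + 1) (by omega) x) =
      ι K L 0 q q (by omega) ((K.X 0 ◁ L.d (q + 1) q) x) := by
  have := congrArg (fun f => (ConcreteCategory.hom f) x) (ι_d_zero_succ K L q)
  simpa using this

lemma ι_d_succ_zero_apply (p : ℕ) (x : (K.X (p + 1) ⊗ L.X 0 : ModuleCat.{v} R)) :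
    (K ⊗ L).d (p + 1) p (ι K L (p + 1) 0 (p + 1) (by omega) x) =
      ι K L p 0 p (by omega) ((K.d (p + 1) p ▷ L.X 0) x) := by
  have := congrArg (fun f => (ConcreteCategory.hom f) x) (ι_d_succ_zero K L p)
  simpa using this

lemma ι_d_one_one_apply (x : (K.X 1 ⊗ L.X 1 : ModuleCat.{v} R)) :
    (K ⊗ L).d 2 1 (ι K L 1 1 2 rfl x) =
      ι K L 0 1 1 rfl ((K.d 1 0 ▷ L.X 1) x) - ι K L 1 0 1 rfl ((K.X 1 ◁ L.d 1 0) x) := by
  have := congrArg (fun f => (ConcreteCategory.hom f) x) (ι_d_succ_succ K L 0 0)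
  simp only [zero_add, pow_one, Units.neg_smul, one_smul] at this
  rw [sub_eq_add_neg]
  simpa using this

end

end Groth.Agent.H9.TensorH1
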