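import Groth.Agent.H9.TensorH1.Basic
import Groth.Agent.H9.TensorH1.Criterion
import Groth.Agent.H43.QisElem

set_option autoImplicit false
universe v
open CategoryTheory MonoidalCategory HomologicalComplex Limits

namespace Groth.Agent.H9.TensorH1

variable {R : Type v} [CommRing R] {P : ChainComplex (ModuleCat.{v} R) ℕ} {G : ModuleCat.{v} R}
  (π : P ⟶ (ChainComplex.single₀ (ModuleCat.{v} R)).obj G)

lemma isIso_homologyMap_sc' {K L : ChainComplex (ModuleCat.{v} R) ℕ} (f : K ⟶ L) (j : ℕ)
    [h : IsIso (HomologicalComplex.homologyMap f j)] (i k : ℕ)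
    (hi : (ComplexShape.down ℕ).prev j = i) (hk : (ComplexShape.down ℕ).next j = k) :
    IsIso (ShortComplex.homologyMap
      ((HomologicalComplex.shortComplexFunctor' _ _ i j k).map f)) := by
  subst hi hk
  exact h

lemma zero_apply' {A B : ModuleCat.{v} R} (x : A) : (ConcreteCategory.hom (0 : A ⟶ B)) x = 0 := rfl

lemma single₀_d_apply (G : ModuleCat.{v} R) (i j : ℕ)
    (w : ((ChainComplex.single₀ (ModuleCat.{v} R)).obj G).X i) :
    (((ChainComplex.single₀ (ModuleCat.{v} R)).obj G).d i j) w = 0 := by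
  have : ((ChainComplex.single₀ (ModuleCat.{v} R)).obj G).d i j = 0 := by simp
  rw [this]
  rfl

lemma single₀_f_succ (q : ℕ) : π.f (q + 1) = 0 :=
  (HomologicalComplex.isZero_single_obj_X (ComplexShape.down ℕ) 0 G (q + 1) (by omega)).eq_of_tgt _ _

variable [QuasiIso π]

lemma surjective_f_zero : Function.Surjective (π.f 0) := by
  have : IsIso (HomologicalComplex.homologyMap π 0) :=
    (quasiIsoAt_iff_isIso_homologyMap π 0).1 inferInstance
  have := isIso_homologyMap_sc' π 0 1 0 (by simp) (by simp)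
  intro y
  obtain ⟨(z : P.X 0), -, (w : ((ChainComplex.single₀ (ModuleCat.{v} R)).obj G).X 1), hw⟩ :=
    H43.QisElem.surj_of_isIso
    ((HomologicalComplex.shortComplexFunctor' _ _ 1 0 0).map π) y (by
      exact single₀_d_apply G 0 0 y)
  refine ⟨z, ?_⟩
  have hw' : y = π.f 0 z + (((ChainComplex.single₀ (ModuleCat.{v} R)).obj G).d 1 0) w := hw
  rw [hw', single₀_d_apply, add_zero]

lemma exact_zero (x : P.X 0) (hx : π.f 0 x = 0) : ∃ y : P.X 1, P.d 1 0 y = x := by
  have : IsIso (HomologicalComplex.homologyMap π 0) :=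
    (quasiIsoAt_iff_isIso_homologyMap π 0).1 inferInstance
  have := isIso_homologyMap_sc' π 0 1 0 (by simp) (by simp)
  obtain ⟨(y : P.X 1), hy⟩ := H43.QisElem.inj_of_isIso
    ((HomologicalComplex.shortComplexFunctor' _ _ 1 0 0).map π) x
    (by
      change P.d 0 0 x = 0
      rw [P.shape 0 0 (by simp)]
      rfl)
    (0 : ((ChainComplex.single₀ (ModuleCat.{v} R)).obj G).X 1)
    (by
      change (((ChainComplex.single₀ (ModuleCat.{v} R)).obj G).d 1 0) 0 = π.f 0 x
      rw [map_zero, hx])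
  exact ⟨y, hy⟩

include π in
lemma exact_one (x : P.X 1) (hx : P.d 1 0 x = 0) : ∃ y : P.X 2, P.d 2 1 y = x := by
  have : IsIso (HomologicalComplex.homologyMap π 1) :=
    (quasiIsoAt_iff_isIso_homologyMap π 1).1 inferInstance
  have := isIso_homologyMap_sc' π 1 2 0 (by simp) (by simp)
  obtain ⟨(y : P.X 2), hy⟩ := H43.QisElem.inj_of_isIso
    ((HomologicalComplex.shortComplexFunctor' _ _ 2 1 0).map π) x hx
    (0 : ((ChainComplex.single₀ (ModuleCat.{v} R)).obj G).X 2)
    (by
      change (((ChainComplex.single₀ (ModuleCat.{v} R)).obj G).d 2 1) 0 = π.f 1 x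
      rw [map_zero, single₀_f_succ π 0]
      rfl)
  exact ⟨y, hy⟩

end Groth.Agent.H9.TensorH1
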