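import Groth.Agent.H9.TensorH1.Basic
import Groth.Agent.H9.TensorH1.Criterion
import Groth.Agent.H9.TensorH1.Resol

/-!
# `H₁(C ⊗ P) ≅ H₁(C ⊗ G[0])` for a free resolution `P → G[0]` when `C₀` is flat
-/

set_option autoImplicit false
universe v
open CategoryTheory MonoidalCategory HomologicalComplex Limits

namespace Groth.Agent.H9.TensorH1

variable {R : Type v} [CommRing R]

/-- right exactness of `X ⊗ -`, elementwise -/
lemma whiskerLeft_rightExact (X : ModuleCat.{v} R) {A B D : ModuleCat.{v} R} (f : A ⟶ B) (g : B ⟶ D)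
    (hfg : Function.Exact f g) (hg : Function.Surjective g)
    (y : (X ⊗ B : ModuleCat.{v} R)) (hy : (X ◁ g) y = 0) :
    ∃ x : (X ⊗ A : ModuleCat.{v} R), (X ◁ f) x = y := by
  have h : Function.Exact (f.hom.lTensor X) (g.hom.lTensor X) := lTensor_exact X hfg hg
  have hy' : (g.hom.lTensor X) y = 0 := hy
  obtain ⟨x, hx⟩ := (h y).mp hy'
  exact ⟨x, hx⟩

/-- exactness of `X ⊗ -` for flat `X`, elementwise -/
lemma whiskerLeft_exact_of_flat (X : ModuleCat.{v} R) [Module.Flat R X] {A B D : ModuleCat.{v} R}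
    (f : A ⟶ B) (g : B ⟶ D) (hfg : Function.Exact f g)
    (y : (X ⊗ B : ModuleCat.{v} R)) (hy : (X ◁ g) y = 0) :
    ∃ x : (X ⊗ A : ModuleCat.{v} R), (X ◁ f) x = y := by
  have h : Function.Exact (f.hom.lTensor X) (g.hom.lTensor X) := Module.Flat.lTensor_exact X hfg
  have hy' : (g.hom.lTensor X) y = 0 := hy
  obtain ⟨x, hx⟩ := (h y).mp hy'
  exact ⟨x, hx⟩

lemma d_d_apply (K : ChainComplex (ModuleCat.{v} R) ℕ) (i j k : ℕ) (x : K.X i) :
    K.d j k (K.d i j x) = 0 := by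
  have h := K.d_comp_d i j k
  have h2 : (K.d i j ≫ K.d j k).hom x = (0 : K.X i ⟶ K.X k).hom x := by rw [h]
  rw [ModuleCat.hom_comp, LinearMap.comp_apply] at h2
  exact h2

lemma comm_apply {K K' : ChainComplex (ModuleCat.{v} R) ℕ} (f : K ⟶ K') (i j : ℕ) (x : K.X i) :
    f.f j (K.d i j x) = K'.d i j (f.f i x) := by
  have h := f.comm i j
  have h2 : (f.f i ≫ K'.d i j).hom x = (K.d i j ≫ f.f j).hom x := by rw [h]
  rw [ModuleCat.hom_comp, LinearMap.comp_apply, ModuleCat.hom_comp, LinearMap.comp_apply] at h2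
  exact h2.symm

section main

variable (C : ChainComplex (ModuleCat.{v} R) ℕ) {P : ChainComplex (ModuleCat.{v} R) ℕ}
  {G : ModuleCat.{v} R}
  (π : P ⟶ (ChainComplex.single₀ (ModuleCat.{v} R)).obj G) [QuasiIso π]

lemma exact_P10 : Function.Exact (P.d 1 0) (π.f 0) := by
  intro y
  constructor
  · intro hy
    obtain ⟨x, hx⟩ := exact_zero π y hy
    exact ⟨x, hx⟩
  · rintro ⟨x, rfl⟩
    rw [comm_apply, single₀_d_apply]

include π in
lemma exact_P21 : Function.Exact (P.d 2 1) (P.d 1 0) := by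
  intro y
  constructor
  · intro hy
    obtain ⟨x, hx⟩ := exact_one π y hy
    exact ⟨x, hx⟩
  · rintro ⟨x, rfl⟩
    rw [d_d_apply]

lemma epi_f (q : ℕ) : Epi (π.f q) := by
  cases q with
  | zero => exact (ModuleCat.epi_iff_surjective _).mpr (surjective_f_zero π)
  | succ q =>
    constructor
    intro Z g h _
    exact (HomologicalComplex.isZero_single_obj_X (ComplexShape.down ℕ) 0 G (q + 1)
      (by omega)).eq_of_src _ _

omit [QuasiIso π] in
lemma whiskerLeft_f_succ_apply (X : ModuleCat.{v} R) (q : ℕ) (x : (X ⊗ P.X (q + 1) : ModuleCat.{v} R)) :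
    (X ◁ π.f (q + 1)) x = 0 := by
  rw [single₀_f_succ π q, MonoidalPreadditive.whiskerLeft_zero]
  rfl

theorem isIso_homologyMap_one [Module.Flat R (C.X 0)] :
    IsIso (HomologicalComplex.homologyMap (C ◁ π) 1) := by
  have hsurjf : ∀ n, Function.Surjective ((C ◁ π).f n) := fun n =>
    (ModuleCat.epi_iff_surjective _).mp (epi_whiskerLeft_f C π (epi_f π) n)
  rw [← quasiIsoAt_iff_isIso_homologyMap,
    quasiIsoAt_iff' (C ◁ π) 2 1 0 (by simp) (by simp), ShortComplex.quasiIso_iff]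
  apply isIso_homologyMap_of_elem
  · -- injectivity
    intro (t : (C ⊗ P).X 1) (ht : (C ⊗ P).d 1 0 t = 0) hs
    obtain ⟨(s : (C ⊗ (ChainComplex.single₀ (ModuleCat.{v} R)).obj G).X 2),
      (hs : (C ⊗ (ChainComplex.single₀ (ModuleCat.{v} R)).obj G).d 2 1 s = (C ◁ π).f 1 t)⟩ := hs
    change ∃ w' : (C ⊗ P).X 2, (C ⊗ P).d 2 1 w' = t
    obtain ⟨c, rfl⟩ := hsurjf 2 s
    obtain ⟨a, b, hab⟩ := exists_decomp_one C P (t - (C ⊗ P).d 2 1 c)
    have hf : (C ◁ π).f 1 (t - (C ⊗ P).d 2 1 c) = 0 := by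
      rw [map_sub, comm_apply, hs, sub_self]
    have hd : (C ⊗ P).d 1 0 (t - (C ⊗ P).d 2 1 c) = 0 := by
      rw [map_sub, ht, d_d_apply, sub_zero]
    rw [hab] at hf hd
    -- the `a`-component dies in `C₁ ⊗ G`
    have ha : (C.X 1 ◁ π.f 0) a = 0 := by
      rw [map_add, ι_whiskerLeft_apply, ι_whiskerLeft_apply, whiskerLeft_f_succ_apply π (C.X 0) 0 b,
        map_zero, add_zero] at hf
      exact ι_injective _ _ 1 0 1 rfl (hf.trans (map_zero _).symm)
    obtain ⟨e, he⟩ := whiskerLeft_rightExact (C.X 1) (P.d 1 0) (π.f 0) (exact_P10 π)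
      (surjective_f_zero π) a ha
    -- kill the `a`-component
    have hd' : (C.X 0 ◁ P.d 1 0) (b + (C.d 1 0 ▷ P.X 1) e) = 0 := by
      have h1 : (C ⊗ P).d 1 0 (ι C P 1 0 1 rfl a + ι C P 0 1 1 rfl b +
          (C ⊗ P).d 2 1 (ι C P 1 1 2 rfl e)) = 0 := by
        rw [map_add, hd, d_d_apply, add_zero]
      rw [ι_d_one_one_apply, he] at h1
      have h2 : ι C P 1 0 1 rfl a + ι C P 0 1 1 rfl b +
          (ι C P 0 1 1 rfl ((C.d 1 0 ▷ P.X 1) e) - ι C P 1 0 1 rfl a) =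
          ι C P 0 1 1 rfl (b + (C.d 1 0 ▷ P.X 1) e) := by
        rw [map_add]
        abel
      rw [h2, ι_d_zero_succ_apply C P 0] at h1
      exact ι_injective _ _ 0 0 0 rfl (h1.trans (map_zero _).symm)
    obtain ⟨g, hg⟩ := whiskerLeft_exact_of_flat (C.X 0) (P.d 2 1) (P.d 1 0) (exact_P21 π) _ hd'
    refine ⟨ι C P 0 2 2 rfl g - ι C P 1 1 2 rfl e + c, ?_⟩
    rw [map_add, map_sub, ι_d_zero_succ_apply C P 1, hg, ι_d_one_one_apply, he, map_add]
    have h3 : t = ι C P 1 0 1 rfl a + ι C P 0 1 1 rfl b + (C ⊗ P).d 2 1 c := by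
      rw [← hab]
      abel
    rw [h3]
    abel
  · -- surjectivity
    intro (z : (C ⊗ (ChainComplex.single₀ (ModuleCat.{v} R)).obj G).X 1)
      (hz : (C ⊗ (ChainComplex.single₀ (ModuleCat.{v} R)).obj G).d 1 0 z = 0)
    change ∃ t : (C ⊗ P).X 1, (C ⊗ P).d 1 0 t = 0 ∧
      ∃ w : (C ⊗ (ChainComplex.single₀ (ModuleCat.{v} R)).obj G).X 2,
        z = (C ◁ π).f 1 t + (C ⊗ (ChainComplex.single₀ (ModuleCat.{v} R)).obj G).d 2 1 w
    obtain ⟨t₀, rfl⟩ := hsurjf 1 z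
    obtain ⟨a, b, hab⟩ := exists_decomp_one C P t₀
    have hd : (C ⊗ P).d 1 0 t₀ =
        ι C P 0 0 0 rfl ((C.d 1 0 ▷ P.X 0) a + (C.X 0 ◁ P.d 1 0) b) := by
      rw [hab, map_add, ι_d_succ_zero_apply C P 0, ι_d_zero_succ_apply C P 0, map_add]
    have hu : (C.X 0 ◁ π.f 0) ((C.d 1 0 ▷ P.X 0) a + (C.X 0 ◁ P.d 1 0) b) = 0 := by
      have h1 : (C ◁ π).f 0 ((C ⊗ P).d 1 0 t₀) = 0 := by
        rw [comm_apply, hz]
      rw [hd, ι_whiskerLeft_apply] at h1
      exact ι_injective _ _ 0 0 0 rfl (h1.trans (map_zero _).symm)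
    obtain ⟨b', hb'⟩ := whiskerLeft_rightExact (C.X 0) (P.d 1 0) (π.f 0) (exact_P10 π)
      (surjective_f_zero π) _ hu
    refine ⟨t₀ - ι C P 0 1 1 rfl b', ?_, 0, ?_⟩
    · rw [map_sub, hd, ι_d_zero_succ_apply C P 0, hb', sub_self]
    · rw [map_sub, ι_whiskerLeft_apply, whiskerLeft_f_succ_apply π (C.X 0) 0 b', map_zero,
        map_zero, sub_zero, add_zero]

end main

end Groth.Agent.H9.TensorH1
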